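import Cfsg.Agent.Lib.AutPOmega.SemisimpleFusion.Centralizer
import Cfsg.Agent.Lib.Classical.OrthPrimeClasses
import Cfsg.Agent.Lib.Classical.OmegaPlus

/-!
# Spinor norm `-1` in the centraliser of an irreducible orthogonal block
-/

set_option autoImplicit false
set_option linter.unusedSectionVars false

namespace Cfsg.Agent.AutPOmega.SSFusion

open Matrix Polynomial Cfsg.Agent.Forms Cfsg.Agent.Forms.QuadStd Cfsg.Agent.Forms.Reflections
open Cfsg.Agent.Forms.PlusStd
open Cfsg.Agent.Classical Cfsg.Agent.Classical.Orth Cfsg.Agent.Classical.OmegaCrit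
open Cfsg.Agent.Classical.StarFactor (Fac comp)
open Cfsg.Agent.Classical.OrthTypes (IsPlus)

universe u

variable {F : Type u} [Field F] [Fintype F]

theorem card_ne_two (h2 : (2 : F) ≠ 0) : Fintype.card F ≠ 2 := fun h0 => h2 (by
  have : ringChar F = 2 := (FiniteField.even_card_iff_char_two).2 (by rw [h0])
  haveI : CharP F 2 := ringChar.of_eq this
  exact CharTwo.two_eq_zero)

/-- A model block: an element with factors `s`, of the given type, centralised by an isometry of
spinor norm `-1`. -/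
def HasSpin (h2 : (2 : F) ≠ 0) (r : ℕ) (s : Multiset F[X]) (b : Bool) : Prop :=
  ∃ (ι : Type) (_ : Fintype ι) (_ : DecidableEq ι) (k : ℕ) (Q : QuadraticForm F (ι → F))
    (hQ : (QuadraticMap.polarBilin Q).Nondegenerate) (h0 s' : Cfsg.isometryGroup F ⇑Q),
    Fintype.card ι = 2 * k ∧ OrthRealise.IsoDatum r s Q (mx h0) ∧ (IsPlus Q k ↔ b = true) ∧
      s' * h0 = h0 * s' ∧ theta hQ (Or.inl (card_ne_two h2)) s' = (1, -1)

theorem chi_mul_sq {x y : F} (hy : y ≠ 0) : chi (x * (y * y)) = chi x := by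
  by_cases hx : x = 0
  · rw [hx, zero_mul]
  · rw [chi_mul hx (mul_ne_zero hy hy), (chi_eq_one_iff (a := y * y)).2 ⟨y, rfl⟩, mul_one]

/-- An element of a finite field extension with non-square norm. -/
theorem exists_nonsquare_norm (h2 : (2 : F) ≠ 0) (K : Type u) [Field K] [Algebra F K] [Finite K] :
    ∃ y : K, y ≠ 0 ∧ chi (Algebra.norm F y) = -1 := by
  obtain ⟨c, hc0, hc⟩ := exists_nonsquare (F := F) h2
  obtain ⟨y, hy⟩ := FiniteField.norm_surjective F K c
  refine ⟨y, fun h0 => hc0 (by rw [← hy, h0, Algebra.norm_zero]), by rw [hy, hc]⟩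

theorem adj_pow {ι : Type} [Fintype ι] [DecidableEq ι] {G A B : Matrix ι ι F}
    (h : Aᵀ * G = G * B) (f : F[X]) : (aeval A f)ᵀ * G = G * aeval B f := by
  induction f using Polynomial.induction_on' with
  | add p q hp hq => simp [transpose_add, Matrix.add_mul, Matrix.mul_add, hp, hq]
  | monomial k t =>
    have hk : ∀ k : ℕ, (A ^ k)ᵀ * G = G * B ^ k := fun k => by
      induction k with
      | zero => simp
      | succ k ih =>
        rw [pow_succ, transpose_mul, Matrix.mul_assoc, ih, ← Matrix.mul_assoc, h, Matrix.mul_assoc,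
          ← pow_succ']
    rw [aeval_monomial, aeval_monomial, ← Algebra.smul_def, ← Algebra.smul_def, transpose_smul,
      Matrix.smul_mul, hk, Matrix.mul_smul]

/-- The value of a polynomial at a matrix with irreducible characteristic polynomial. -/
theorem det_aeval_eq_norm {n r : ℕ} (hri : (r : F) ≠ 0) {p : F[X]} (hp : Fac r p)
    {A : Matrix (Fin n) (Fin n) F} (hA : A ^ r = 1) (hc : A.charpoly = p) (f : F[X]) :
    (aeval A f).det = Algebra.norm F (AdjoinRoot.mk p f) := by
  classical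
  have hp0 := hp.monic.ne_zero
  set b := (AdjoinRoot.powerBasis hp0).basis
  have hn : (AdjoinRoot.powerBasis hp0).dim = n := by
    rw [AdjoinRoot.powerBasis_dim, ← hc, Matrix.charpoly_natDegree_eq_dim, Fintype.card_fin]
  let φ := Matrix.reindexAlgEquiv F F (finCongr hn)
  obtain ⟨M, hM⟩ := SemisimpleConj.exists_matrix_conj A (φ (comp p hp0)) hri hA
    (by rw [← map_pow, StarFactor.comp_pow r hp0 hp.dvd, map_one])
    (by rw [hc]; exact ((Matrix.charpoly_reindex _ _).trans (StarFactor.charpoly_comp p hp.monic)).symm)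
  have hf : ∀ g : F[X], (M : Matrix (Fin n) (Fin n) F) * aeval A g =
      aeval (φ (comp p hp0)) g * (M : Matrix (Fin n) (Fin n) F) := by
    intro g
    induction g using Polynomial.induction_on' with
    | add u v hu hv => simp [Matrix.mul_add, Matrix.add_mul, hu, hv]
    | monomial k t =>
      have hk : SemiconjBy (M : Matrix (Fin n) (Fin n) F) A (φ (comp p hp0)) := hM
      rw [aeval_monomial, aeval_monomial, ← Algebra.smul_def, ← Algebra.smul_def, Matrix.mul_smul,
        Matrix.smul_mul, (hk.pow_right k).eq]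
  have hd := congrArg Matrix.det (hf f)
  rw [det_mul, det_mul, mul_comm _ (M : Matrix (Fin n) (Fin n) F).det] at hd
  rw [mul_left_cancel₀ (M.isUnit.map Matrix.detMonoidHom).ne_zero hd, aeval_algHom_apply]
  refine (Matrix.det_reindex_self _ _).trans ?_
  rw [show comp p hp0 = Algebra.leftMulMatrix b (AdjoinRoot.root p) from rfl, aeval_algHom_apply,
    AdjoinRoot.aeval_eq, ← Algebra.norm_eq_matrix_det]

theorem fixed_free {ι : Type} [Fintype ι] [DecidableEq ι] {Q : QuadraticForm F (ι → F)}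
    {h0 : Cfsg.isometryGroup F ⇑Q} (h : (mx h0).charpoly.eval 1 ≠ 0) (v : ι → F)
    (hv : act h0 v = v) : v = 0 :=
  OrthPrimeClasses.eq_zero_of_fixed h (by rwa [act_apply] at hv)

theorem fac_eval_one {r : ℕ} {p : F[X]} (hp : Fac r p) : p.eval 1 ≠ 0 := fun h =>
  hp.ne (eq_of_monic_of_associated hp.monic (monic_X_sub_C 1)
    ((irreducible_X_sub_C (1 : F)).associated_of_dvd hp.irr (dvd_iff_isRoot.2 h)).symm)

/-- The block of a single factor, in coordinates. -/
theorem spin_single_fin (h2 : (2 : F) ≠ 0) {n k r : ℕ} (hn : n = 2 * k) (hr : r.Prime) (hr2 : r ≠ 2)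
    (hri : (r : F) ≠ 0) {p : F[X]} (hp : Fac r p) {Q : QuadraticForm F (Fin n → F)}
    (hQ : (QuadraticMap.polarBilin Q).Nondegenerate) {h0 : Cfsg.isometryGroup F ⇑Q}
    (hh : h0 ^ r = 1) (hc : (mx h0).charpoly = p) :
    ∃ s : Cfsg.isometryGroup F ⇑Q, s * h0 = h0 * s ∧
      theta hQ (Or.inl (card_ne_two h2)) s = (1, -1) := by
  classical
  haveI := Fact.mk hr
  haveI : Fact (Irreducible p) := ⟨hp.irr⟩
  haveI : Module.Finite F (AdjoinRoot p) := (AdjoinRoot.powerBasis hp.monic.ne_zero).finite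
  haveI : Finite (AdjoinRoot p) := Module.finite_of_finite F
  have hodd := hr.odd_of_ne_two hr2
  set A := mx h0 with hAdef
  have hA : A ^ r = 1 := by rw [hAdef, ← mx_pow, hh, mx_one]
  have hAi : mx h0⁻¹ = A ^ (r - 1) := by
    rw [hAdef, ← mx_pow, inv_eq_of_mul_eq_one_right (b := h0 ^ (r - 1))
      (by rw [← pow_succ', Nat.sub_add_cancel hr.one_le, hh])]
  set z := AdjoinRoot.root p with hz
  have hzr : z ^ r = 1 := StarFactor.root_pow r hp.dvd
  have hz0 : z ≠ 0 := fun h => by rw [h, zero_pow hr.ne_zero] at hzr; exact zero_ne_one hzr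
  obtain ⟨y, hy0, hy⟩ := exists_nonsquare_norm h2 (AdjoinRoot p)
  obtain ⟨f₀, rfl⟩ := AdjoinRoot.mk_surjective y
  set w := aeval (z ^ (r - 1)) f₀ with hw
  -- choose `f`
  obtain ⟨f, hfn, hfs⟩ : ∃ f : F[X], chi (Algebra.norm F (AdjoinRoot.mk p f)) = -1 ∧
      AdjoinRoot.mk p f + aeval (z ^ (r - 1)) f ≠ 0 := by
    by_cases hs : AdjoinRoot.mk p f₀ + w = 0
    · refine ⟨f₀ * X ^ 2, ?_, ?_⟩
      · rw [map_mul, map_pow, AdjoinRoot.mk_X, map_mul, ← hz, pow_two, map_mul,
          chi_mul_sq (Algebra.norm_ne_zero_iff.2 hz0)]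
        exact hy
      · rw [map_mul, map_pow, AdjoinRoot.mk_X, ← hz, map_mul, map_pow, aeval_X, ← hw,
          show w = -AdjoinRoot.mk p f₀ from eq_neg_of_add_eq_zero_right hs,
          show ∀ a b c : AdjoinRoot p, a * b + -a * c = a * (b - c) from fun a b c => by ring]
        refine mul_ne_zero hy0 (sub_ne_zero.2 fun e => ?_)
        have h4 : z ^ 4 = 1 := by
          calc z ^ 4 = z ^ 2 * z ^ 2 := by ring
            _ = z ^ 2 * (z ^ (r - 1)) ^ 2 := by rw [← e]
            _ = 1 := by rw [← mul_pow, ← pow_succ', Nat.sub_add_cancel hr.one_le, hzr, one_pow]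
        have hd := hp.primitive.dvd_of_pow_eq_one 4 h4
        rw [show (4 : ℕ) = 2 ^ 2 by norm_num] at hd
        exact hr2 ((Nat.prime_dvd_prime_iff_eq hr Nat.prime_two).1 (hr.dvd_of_dvd_pow hd))
    · exact ⟨f₀, hy, hs⟩
  set a := aeval A f with ha
  set b := aeval (mx h0⁻¹) f with hb
  have hcomm : ∀ g : F[X], Commute (aeval A g) A := fun g => by
    have := Commute.map (Commute.all g X) (aeval A : F[X] →ₐ[F] Matrix (Fin n) (Fin n) F)
    rwa [aeval_X] at this
  have hbA : b = aeval A (f.comp (X ^ (r - 1))) := by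
    rw [hb, aeval_comp, map_pow, aeval_X, hAi]
  refine exists_spin_of_adj h2 hQ hn (Or.inl (card_ne_two h2)) hodd hh
    (fixed_free (by rw [← hAdef, hc]; exact fac_eval_one hp)) (a := a) (b := b)
    (adj_pow (gramI_adj h0) f) ?_ (hcomm f) (hbA ▸ hcomm _) ?_ ?_ ?_ ?_
  · rw [hbA, ha, ← map_mul, ← map_mul, mul_comm]
  · rw [hAi]; exact (hcomm f).pow_right _
  · rw [hAi, hbA]; exact (hcomm _).pow_right _
  · rw [ha, det_aeval_eq_norm hri hp hA hc, hfn]
  · rw [hbA, ha, ← map_add, det_aeval_eq_norm hri hp hA hc]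
    refine Algebra.norm_ne_zero_iff.2 ?_
    rw [map_add, ← AdjoinRoot.aeval_eq (f.comp (X ^ (r - 1))), aeval_comp, map_pow, aeval_X]
    exact hfs

theorem hasSpin_single (h2 : (2 : F) ≠ 0) {r i : ℕ} (hS : OrthPrimeClasses.Setting F r i)
    {p : F[X]} (hp : Fac r p) (hs : StarFactor.star r p = p) : HasSpin h2 r {p} false := by
  classical
  haveI := Fact.mk hS.prime
  obtain ⟨κ, _, _, k, R, B, hk, hB, hb⟩ :=
    OrthRealise.real_single hS.cast_ne hS.ne_two hS.ord hS.deg hp hs
  let e := LinearEquiv.funCongrLeft F F (Fintype.equivFin κ).symm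
  let Q : QuadraticForm F (Fin (Fintype.card κ) → F) := R.comp e.symm.toLinearMap
  have he : ∀ x, Q (e x) = 1 * R x := fun x => by
    rw [one_mul]
    show R (e.symm (e x)) = R x
    rw [e.symm_apply_apply]
  have hQ : (QuadraticMap.polarBilin Q).Nondegenerate := by
    have h : ∀ x, (∀ y, QuadraticMap.polar Q x y = 0) → x = 0 := fun x hx => by
      have h1 : e.symm x = 0 := hB.nd.1 _ fun z => by
        have := hx (e z)
        simp only [QuadraticMap.polar, Q, QuadraticMap.comp_apply, LinearEquiv.coe_coe, map_add,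
          e.symm_apply_apply] at this
        exact this
      exact e.symm.map_eq_zero_iff.1 h1
    exact ⟨fun x hx => h x hx, fun x hx => h x fun y => (QuadraticMap.polar_comm _ x y).trans (hx y)⟩
  obtain ⟨A, hA⟩ := OrthPrimeClasses.datum_map hB hQ 1 e he
  obtain ⟨h0, hh, hhm⟩ := OrthRealise.exists_elt hS.prime.pos ⇑Q A hA.pres hA.pow
  change mx h0 = A at hhm
  obtain ⟨s, hs1, hs2⟩ := spin_single_fin h2 hk hS.prime hS.ne_two hS.cast_ne hp hQ hh
    (by rw [hhm, hA.char, Multiset.prod_singleton])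
  refine ⟨_, inferInstance, inferInstance, k, Q, hQ, h0, s, by rw [Fintype.card_fin, hk],
    ⟨hQ, fun v => iso_mulVec h0 v, by rw [← mx_pow, hh, mx_one], hhm ▸ hA.char⟩,
    ⟨fun h => hb.1 (h.map e.symm fun x => rfl), fun h => (hb.2 h).map e fun x => by rw [he, one_mul]⟩,
    hs1, hs2⟩

theorem hasSpin_pair (h2 : (2 : F) ≠ 0) {r : ℕ} (hr : 1 ≤ r) {p : F[X]} (hp : Fac r p) :
    HasSpin h2 r {p, StarFactor.star r p} true := by
  classical
  have hp0 := hp.monic.ne_zero
  haveI : Fact (Irreducible p) := ⟨hp.irr⟩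
  haveI : Module.Finite F (AdjoinRoot p) := (AdjoinRoot.powerBasis hp0).finite
  haveI : Finite (AdjoinRoot p) := Module.finite_of_finite F
  set B := (AdjoinRoot.powerBasis hp0).basis
  obtain ⟨y, hy0, hy⟩ := exists_nonsquare_norm h2 (AdjoinRoot p)
  have hzr : AdjoinRoot.root p ^ r = 1 := StarFactor.root_pow r hp.dvd
  let z : (AdjoinRoot p)ˣ := Units.ofPowEqOne (AdjoinRoot.root p) r hzr (by omega)
  let μ : (AdjoinRoot p)ˣ →* GL (Fin (AdjoinRoot.powerBasis hp0).dim) F :=
    Units.map (Algebra.leftMulMatrix B).toRingHom.toMonoidHom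
  let H := OmegaPlus.leviIso (μ z)
  have hM : ((μ z : GL _ F) : Matrix _ _ F) = comp p hp0 := rfl
  have hMr : comp p hp0 ^ r = 1 := StarFactor.comp_pow r hp0 hp.dvd
  have hinv : (comp p hp0)⁻¹ = comp p hp0 ^ (r - 1) :=
    Matrix.inv_eq_right_inv (by rw [← pow_succ', Nat.sub_add_cancel hr, hMr])
  have hmx : mx H = fromBlocks (comp p hp0) 0 0 (comp p hp0 ^ (r - 1))ᵀ := by
    show mx (OmegaPlus.leviIso (μ z)) = _
    rw [mx, OmegaPlus.leviIso_val, hM, hinv]
  refine ⟨_, inferInstance, inferInstance, (AdjoinRoot.powerBasis hp0).dim, plusQ F _,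
    plusQ_nondeg F _, H, OmegaPlus.leviIso (μ (Units.mk0 y hy0)), by simp [two_mul],
    ⟨plusQ_nondeg F _, fun v => iso_mulVec H v, ?_, ?_⟩,
    iff_of_true (OrthTypes.isPlus_plusQ _) rfl, ?_, ?_⟩
  · rw [hmx, OrthRealise.pow_blocks, hMr, ← Matrix.transpose_pow, ← pow_mul, mul_comm, pow_mul,
      hMr, one_pow, Matrix.transpose_one, Matrix.fromBlocks_one]
  · rw [hmx, Matrix.charpoly_fromBlocks_zero₁₂, Matrix.charpoly_transpose,
      StarFactor.charpoly_comp p hp.monic, Multiset.insert_eq_cons, Multiset.prod_cons,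
      Multiset.prod_singleton]
    congr 1
    rw [StarFactor.star, dif_pos hp0]
  · rw [← map_mul, ← map_mul, ← map_mul, ← map_mul, mul_comm]
  · rw [OmegaPlus.theta_levi, ← hy, Algebra.norm_eq_matrix_det B]
    rfl

end Cfsg.Agent.AutPOmega.SSFusion
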