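import Cfsg.Agent.Lib.AutPOmega.SemisimpleFusion.Zassenhaus
import Cfsg.Agent.Lib.AutPOmega.Pos
import Cfsg.Agent.Lib.Classical.OrthRealise
import Cfsg.Agent.Lib.Forms.SimForms

/-!
# Similitudes and isometries centralising a semisimple isometry of odd order
-/

set_option autoImplicit false
set_option linter.unusedSectionVars false

namespace Cfsg.Agent.AutPOmega.SSFusion

open Matrix Cfsg.Agent.Forms Cfsg.Agent.Forms.QuadStd Cfsg.Agent.Forms.Reflections
open Cfsg.Agent.Classical Cfsg.Agent.Classical.Orth Cfsg.Agent.Classical.OmegaCrit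

universe u

variable {F : Type u} [Field F]

theorem mx_one {ι : Type} [Fintype ι] [DecidableEq ι] {Q : (ι → F) → F} :
    mx (1 : Cfsg.isometryGroup F Q) = 1 := rfl

theorem mx_pow {ι : Type} [Fintype ι] [DecidableEq ι] {Q : (ι → F) → F}
    (g : Cfsg.isometryGroup F Q) : ∀ k : ℕ, mx (g ^ k) = mx g ^ k
  | 0 => rfl
  | k + 1 => by rw [pow_succ, pow_succ, mx_mul, mx_pow g k]

theorem mx_det_ne {ι : Type} [Fintype ι] [DecidableEq ι] {Q : (ι → F) → F}
    (g : Cfsg.isometryGroup F Q) : (mx g).det ≠ 0 :=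
  ((g : GL ι F).isUnit.map Matrix.detMonoidHom).ne_zero

/-! ### Alternating matrices -/

section alt

variable {n M : ℕ}

/-- Two non-degenerate alternating matrices have determinants in the same square class. -/
theorem alt_det_class {P P' : Matrix (Fin n) (Fin n) F} (hn : n = 2 * M)
    (hP : ∀ v, v ⬝ᵥ (P *ᵥ v) = 0) (hP' : ∀ v, v ⬝ᵥ (P' *ᵥ v) = 0) (hd : P.det ≠ 0)
    (hd' : P'.det ≠ 0) : ∃ t : F, t ≠ 0 ∧ P.det = t ^ 2 * P'.det := by
  obtain ⟨e, he⟩ := SimForms.alt_std (GeneralLinearGroup.mkOfDetNeZero P hd) hP hn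
  obtain ⟨e', he'⟩ := SimForms.alt_std (GeneralLinearGroup.mkOfDetNeZero P' hd') hP' hn
  obtain ⟨E, hE⟩ := SimForms.exists_congr_of_form (P := P) (P' := P') (e.trans e'.symm) (l := 1)
    (fun u v => by
      rw [one_mul, LinearEquiv.trans_apply, LinearEquiv.trans_apply]
      refine (he' _ _).symm.trans ?_
      rw [e'.apply_symm_apply, e'.apply_symm_apply]
      exact he u v)
  refine ⟨(E : Matrix (Fin n) (Fin n) F).det, (E.isUnit.map Matrix.detMonoidHom).ne_zero, ?_⟩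
  have h := congrArg Matrix.det hE
  rw [one_smul, det_mul, det_mul, det_transpose] at h
  rw [← h]
  ring

theorem dot_alt_of_skew (h2 : (2 : F) ≠ 0) {ι : Type} [Fintype ι] [DecidableEq ι]
    {K : Matrix ι ι F} (hK : Kᵀ = -K) (u : ι → F) : u ⬝ᵥ (K *ᵥ u) = 0 := by
  have h : u ⬝ᵥ (K *ᵥ u) = -(u ⬝ᵥ (K *ᵥ u)) := by
    conv_lhs => rw [dotProduct_mulVec, ← mulVec_transpose, hK, neg_mulVec, neg_dotProduct,
      dotProduct_comm]
  exact (mul_eq_zero.1 (show (2 : F) * (u ⬝ᵥ (K *ᵥ u)) = 0 by linear_combination h)).resolve_left h2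

/-- The determinant of a similitude of an alternating matrix, any index type. -/
theorem det_alt_sim {ι : Type} [Fintype ι] [DecidableEq ι] (h2 : (2 : F) ≠ 0)
    (hn : Fintype.card ι = 2 * M) (hM : 1 ≤ M) {P U : Matrix ι ι F} (hP : Pᵀ = -P)
    (hd : P.det ≠ 0) (hU : U.det ≠ 0) {c : F} (h : Uᵀ * P * U = c • P) : U.det = c ^ M := by
  let φ := Matrix.reindexAlgEquiv F F (Fintype.equivFin ι)
  have hT : ∀ A : Matrix ι ι F, (φ A)ᵀ = φ Aᵀ := fun A => rfl
  have hdet : ∀ A : Matrix ι ι F, (φ A).det = A.det := fun A => Matrix.det_reindex_self _ A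
  have h' : (φ U)ᵀ * φ P * φ U = c • φ P := by
    rw [hT, ← map_mul, ← map_mul, h, map_smul]
  have hP' : (φ P)ᵀ = -(φ P) := by rw [hT, hP, map_neg]
  rw [← hdet U]
  exact SimForms.det_alt hM (GeneralLinearGroup.mkOfDetNeZero _ (by rwa [hdet]))
    (dot_alt_of_skew h2 hP') (hn ▸ rfl) (g := GeneralLinearGroup.mkOfDetNeZero _ (by rwa [hdet])) h'

end alt

/-! ### The Gram matrix and the skew matrix of an element -/

variable {ι : Type} [Fintype ι] [DecidableEq ι] {Q : QuadraticForm F (ι → F)}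

/-- the Gram matrix, any index type -/
noncomputable def gramI (Q : QuadraticForm F (ι → F)) : Matrix ι ι F :=
  Matrix.of fun i j => QuadraticMap.polar Q (Pi.single i 1) (Pi.single j 1)

theorem polar_gramI (x y : ι → F) : QuadraticMap.polar Q x y = x ⬝ᵥ (gramI Q *ᵥ y) := by
  have e : QuadraticMap.polarBilin Q = Matrix.toBilin' (gramI Q) :=
    LinearMap.BilinForm.ext_basis (Pi.basisFun F ι) fun i j => by
      simp [Matrix.toBilin'_single, gramI]
  rw [← QuadraticMap.polarBilin_apply_apply, e, Matrix.toBilin'_apply']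

theorem gramI_symm : (gramI Q)ᵀ = gramI Q := by
  ext i j
  exact QuadraticMap.polar_comm _ _ _

theorem gramI_det (hQ : (QuadraticMap.polarBilin Q).Nondegenerate) : (gramI Q).det ≠ 0 := by
  intro h0
  obtain ⟨v, hv, hv'⟩ := Matrix.exists_mulVec_eq_zero_iff.2 h0
  exact hv (hQ.2 v fun x => by
    rw [QuadraticMap.polarBilin_apply_apply, polar_gramI, hv', dotProduct_zero])

theorem gramI_congr {U : Matrix ι ι F} {c : F}
    (h : ∀ x y, QuadraticMap.polar Q (U *ᵥ x) (U *ᵥ y) = c * QuadraticMap.polar Q x y) :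
    Uᵀ * gramI Q * U = c • gramI Q := by
  ext i j
  have hp := h (Pi.single i 1) (Pi.single j 1)
  rw [polar_gramI, polar_gramI, dotProduct_mulVec, ← vecMul_transpose, vecMul_vecMul,
    dotProduct_mulVec, vecMul_vecMul] at hp
  simpa [vecMul, dotProduct, Pi.single_apply] using hp

theorem gramI_iso (g : Cfsg.isometryGroup F ⇑Q) : (mx g)ᵀ * gramI Q * mx g = gramI Q := by
  rw [gramI_congr (c := 1) fun x y => by rw [one_mul, ← act_apply, ← act_apply, act_polar],
    one_smul]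

theorem gramI_adj (g : Cfsg.isometryGroup F ⇑Q) : (mx g)ᵀ * gramI Q = gramI Q * mx g⁻¹ := by
  conv_rhs => rw [← gramI_iso g]
  rw [Matrix.mul_assoc _ (mx g), ← mx_mul, mul_inv_cancel, mx_one, Matrix.mul_one]

/-- `G (h - h⁻¹)`. -/
noncomputable def skewOf (h0 : Cfsg.isometryGroup F ⇑Q) : Matrix ι ι F :=
  gramI Q * (mx h0 - mx h0⁻¹)

theorem skewOf_skew (h0 : Cfsg.isometryGroup F ⇑Q) : (skewOf h0)ᵀ = -skewOf h0 := by
  rw [skewOf, transpose_mul, gramI_symm, transpose_sub, Matrix.sub_mul, gramI_adj, gramI_adj,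
    inv_inv, Matrix.mul_sub]
  abel

theorem fixed_of_sq {r : ℕ} (hr : Odd r) {h0 : Cfsg.isometryGroup F ⇑Q} (hh : h0 ^ r = 1)
    {v : ι → F} (hv : act (h0 * h0) v = v) : act h0 v = v := by
  obtain ⟨k, rfl⟩ := hr
  have h : ∀ j : ℕ, act ((h0 * h0) ^ j) v = v := fun j => by
    induction j with
    | zero => rw [pow_zero, act_one]
    | succ j ih => rw [pow_succ, act_mul, hv, ih]
  have e : (h0 * h0) ^ (k + 1) = h0 := by
    rw [← pow_two, ← pow_mul, show 2 * (k + 1) = (2 * k + 1) + 1 by ring, pow_succ, hh, one_mul]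
  have := h (k + 1)
  rwa [e] at this

theorem skewOf_det (hQ : (QuadraticMap.polarBilin Q).Nondegenerate) {r : ℕ} (hr : Odd r)
    {h0 : Cfsg.isometryGroup F ⇑Q} (hh : h0 ^ r = 1)
    (hfix : ∀ v, act h0 v = v → v = 0) : (skewOf h0).det ≠ 0 := by
  rw [skewOf, det_mul]
  refine mul_ne_zero (gramI_det hQ) fun h0d => ?_
  obtain ⟨v, hv, hv'⟩ := Matrix.exists_mulVec_eq_zero_iff.2 h0d
  refine hv (hfix v (fixed_of_sq hr hh ?_))
  rw [sub_mulVec, sub_eq_zero] at hv'
  rw [act_mul, act_apply h0 v, hv', ← act_apply, ← act_mul, mul_inv_cancel, act_one]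

/-- Without fixed vectors a similitude centralising `h0` has the proper determinant. -/
theorem det_comm_sim (h2 : (2 : F) ≠ 0) (hQ : (QuadraticMap.polarBilin Q).Nondegenerate) {M : ℕ}
    (hn : Fintype.card ι = 2 * M) (hM : 1 ≤ M) {r : ℕ} (hr : Odd r)
    {h0 : Cfsg.isometryGroup F ⇑Q} (hh : h0 ^ r = 1) (hfix : ∀ v, act h0 v = v → v = 0)
    (u : GO Q) (hu : u * ofIso Q h0 = ofIso Q h0 * u) : (mat u).det = (muC u : F) ^ M := by
  have hu' : u * ofIso Q h0⁻¹ = ofIso Q h0⁻¹ * u := by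
    rw [map_inv]
    exact (Commute.inv_right (hu : Commute u (ofIso Q h0)))
  have e1 : mat u * mx h0 = mx h0 * mat u := by
    have := congrArg mat hu
    rwa [mat_mul, mat_mul, mat_ofIso] at this
  have e2 : mat u * mx h0⁻¹ = mx h0⁻¹ * mat u := by
    have := congrArg mat hu'
    rwa [mat_mul, mat_mul, mat_ofIso] at this
  refine det_alt_sim h2 hn hM (skewOf_skew h0) (skewOf_det hQ hr hh hfix)
    ((u : GL ι F).isUnit.map Matrix.detMonoidHom).ne_zero ?_
  show (mat u)ᵀ * skewOf h0 * mat u = _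
  rw [skewOf, Matrix.mul_assoc, Matrix.mul_assoc, Matrix.sub_mul, ← e1, ← e2, ← Matrix.mul_sub,
    ← Matrix.mul_assoc (gramI Q), ← Matrix.mul_assoc (mat u)ᵀ, ← Matrix.mul_assoc (mat u)ᵀ,
    gramI_congr (polar_mat u), Matrix.smul_mul]

/-- Every similitude can be corrected by an isometry to centralise `h0`. -/
theorem exists_comm_sim [Fintype F] (hQ : (QuadraticMap.polarBilin Q).Nondegenerate) {r : ℕ}
    (hr : Odd r) (hri : (r : F) ≠ 0) {h0 : Cfsg.isometryGroup F ⇑Q} (hh : h0 ^ r = 1) (d : GO Q) :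
    ∃ t : Cfsg.isometryGroup F ⇑Q,
      ofIso Q t * d * ofIso Q h0 = ofIso Q h0 * (ofIso Q t * d) := by
  set B := conjIso Q d h0 with hBdef
  have hB : B ^ r = 1 := by rw [hBdef, ← map_pow, hh, map_one]
  obtain ⟨f, hf, hfA⟩ := OrthRealise.exists_intertwine hr hri hQ
    (fun v => iso_mulVec h0 v) (by rw [← mx_pow, hh, mx_one])
    (fun v => iso_mulVec B v) (by rw [← mx_pow, hB, mx_one])
    (by
      show (mx h0).charpoly = ((((d : GL ι F) * (h0 : GL ι F) * (d : GL ι F)⁻¹ : GL ι F)) : Matrix ι ι F).charpoly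
      rw [Units.val_mul, Units.val_mul]
      exact (Matrix.charpoly_units_conj (d : GL ι F) (mx h0)).symm.trans (by rw [Matrix.coe_units_inv]))
    (LinearEquiv.refl F _) (fun x => rfl)
  set t := isoOfEquiv ⇑Q f hf with ht
  have e : t * h0 = B * t := mx_ext (Matrix.ext_iff_mulVec.2 fun x => by
    rw [mx_mul, mx_mul, ← mulVec_mulVec, ← mulVec_mulVec]
    show ((t : GL ι F) : Matrix ι ι F) *ᵥ _ = _ *ᵥ (((t : GL ι F) : Matrix ι ι F) *ᵥ x)
    rw [ht, isoOfEquiv_mulVec, isoOfEquiv_mulVec]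
    exact hfA x)
  refine ⟨t⁻¹, ?_⟩
  have e' := congrArg (ofIso Q) e
  rw [map_mul, map_mul, hBdef, ofIso_conjIso] at e'
  rw [map_inv, eq_comm, ← mul_inv_eq_iff_eq_mul]
  calc ofIso Q h0 * ((ofIso Q t)⁻¹ * d) * (ofIso Q h0)⁻¹
      = (ofIso Q t)⁻¹ * (ofIso Q t * ofIso Q h0) * (ofIso Q t)⁻¹ * d * (ofIso Q h0)⁻¹ := by group
    _ = (ofIso Q t)⁻¹ * (d * ofIso Q h0 * d⁻¹ * ofIso Q t) * (ofIso Q t)⁻¹ * d *
          (ofIso Q h0)⁻¹ := by rw [e']
    _ = (ofIso Q t)⁻¹ * d := by group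

/-! ### Spinor norms in centralisers -/

/-- An element `a` of the centraliser commuting with its adjoint `b`, with `a + b` invertible and
`det a` a non-square, gives an isometry of spinor norm `-1` centralising `h0`. -/
theorem exists_spin_of_adj [Fintype F] {n M : ℕ} {Q : QuadraticForm F (Fin n → F)}
    (h2 : (2 : F) ≠ 0) (hQ : (QuadraticMap.polarBilin Q).Nondegenerate) (hn : n = 2 * M)
    (hq : Fintype.card F ≠ 2 ∨ Fintype.card (Fin n) ≠ 4) {r : ℕ} (hr : Odd r)
    {h0 : Cfsg.isometryGroup F ⇑Q} (hh : h0 ^ r = 1) (hfix : ∀ v, act h0 v = v → v = 0)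
    {a b : Matrix (Fin n) (Fin n) F} (hadj : aᵀ * gramI Q = gramI Q * b) (hab : a * b = b * a)
    (ha : Commute a (mx h0)) (hb : Commute b (mx h0)) (ha' : Commute a (mx h0⁻¹))
    (hb' : Commute b (mx h0⁻¹)) (hdet : chi a.det = -1) (hsum : (a + b).det ≠ 0) :
    ∃ s : Cfsg.isometryGroup F ⇑Q, s * h0 = h0 * s ∧ theta hQ hq s = (1, -1) := by
  set G := gramI Q
  have hGs : Gᵀ = G := gramI_symm
  have hGd : G.det ≠ 0 := gramI_det hQ
  have hda : a.det ≠ 0 := fun h0 => by rw [h0, chi_eq_one_iff.2 IsSquare.zero] at hdet; exact absurd hdet (by decide)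
  have hdb : b.det = a.det := by
    have := congrArg Matrix.det hadj
    rw [det_mul, det_mul, det_transpose, mul_comm] at this
    exact (mul_left_cancel₀ hGd this).symm
  have hub : IsUnit b.det := isUnit_iff_ne_zero.2 (hdb ▸ hda)
  have hadj' : bᵀ * G = G * a := by
    have := congrArg Matrix.transpose hadj
    rw [transpose_mul, transpose_mul, transpose_transpose, hGs] at this
    exact this.symm
  set S := a * b⁻¹ with hS
  have hbi : b * b⁻¹ = 1 := mul_nonsing_inv _ hub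
  have hib : b⁻¹ * b = 1 := nonsing_inv_mul _ hub
  have hSG : Sᵀ * G * S = G := by
    calc Sᵀ * G * S = b⁻¹ᵀ * (aᵀ * G) * (a * b⁻¹) := by
          rw [hS, transpose_mul]; simp only [Matrix.mul_assoc]
      _ = b⁻¹ᵀ * (G * (a * (b * b⁻¹))) := by
          rw [hadj, ← Matrix.mul_assoc a b, hab]; simp only [Matrix.mul_assoc]
      _ = b⁻¹ᵀ * (bᵀ * G) := by rw [hbi, Matrix.mul_one, hadj']
      _ = G := by rw [← Matrix.mul_assoc, ← transpose_mul, hbi, transpose_one, Matrix.one_mul]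
  have hval : ∀ v, Q (S *ᵥ v) = Q v := fun v => by
    have e : QuadraticMap.polar Q (S *ᵥ v) (S *ᵥ v) = QuadraticMap.polar Q v v := by
      rw [polar_gramI, polar_gramI, mulVec_mulVec, dotProduct_mulVec, ← vecMul_transpose,
        vecMul_vecMul, ← Matrix.mul_assoc, hSG, ← dotProduct_mulVec]
    rw [QuadraticMap.polar_self, QuadraticMap.polar_self, two_nsmul, two_nsmul,
      ← two_mul, ← two_mul] at e
    exact mul_left_cancel₀ h2 e
  have hSd : S.det ≠ 0 := by
    rw [hS, det_mul, det_nonsing_inv, Ring.inverse_eq_inv']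
    exact mul_ne_zero hda (inv_ne_zero (hdb ▸ hda))
  let s : Cfsg.isometryGroup F ⇑Q :=
    ⟨GeneralLinearGroup.mkOfDetNeZero S hSd, (mem_isometry_iff _ _).2 hval⟩
  have hbH : Commute b⁻¹ (mx h0) := by
    show b⁻¹ * mx h0 = mx h0 * b⁻¹
    calc b⁻¹ * mx h0 = b⁻¹ * (mx h0 * b) * b⁻¹ := by
          rw [Matrix.mul_assoc _ _ b⁻¹, Matrix.mul_assoc (mx h0), hbi, Matrix.mul_one]
      _ = mx h0 * b⁻¹ := by rw [← hb.eq, ← Matrix.mul_assoc b⁻¹, hib, Matrix.one_mul]
  refine ⟨s, mx_ext (Commute.mul_left ha hbH), ?_⟩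
  have h1S : 1 + mx s = (a + b) * b⁻¹ := by
    show 1 + a * b⁻¹ = _
    rw [Matrix.add_mul, hbi, add_comm]
  have hd1 : (1 + mx s).det = (a + b).det * b.det⁻¹ := by
    rw [h1S, det_mul, det_nonsing_inv, Ring.inverse_eq_inv']
  rw [theta_cayley hQ h2 hq s (by
    rw [hd1]; exact mul_ne_zero hsum (inv_ne_zero (hdb ▸ hda)))]
  refine Prod.ext rfl ?_
  -- `det (a + b)` is a square
  have hP := skewOf_det hQ hr hh hfix
  have hskew : (skewOf h0 * (a + b))ᵀ = -(skewOf h0 * (a + b)) := by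
    have hc : (a + b) * (mx h0 - mx h0⁻¹) = (mx h0 - mx h0⁻¹) * (a + b) :=
      ((ha.add_left hb).sub_right (ha'.add_left hb')).eq
    rw [transpose_mul, skewOf_skew, Matrix.mul_neg, skewOf, ← Matrix.mul_assoc, transpose_add,
      Matrix.add_mul, hadj, hadj', ← Matrix.mul_add, Matrix.mul_assoc, add_comm b a, hc,
      ← Matrix.mul_assoc]
  obtain ⟨t, ht0, ht⟩ := alt_det_class (P := skewOf h0 * (a + b)) (P' := skewOf h0) hn
    (dot_alt_of_skew h2 hskew) (dot_alt_of_skew h2 (skewOf_skew h0))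
    (by rw [det_mul]; exact mul_ne_zero hP hsum) hP
  rw [det_mul, mul_comm (t ^ 2)] at ht
  have hsq : chi (a + b).det = 1 :=
    chi_eq_one_iff.2 ⟨t, by rw [mul_left_cancel₀ hP ht, sq]⟩
  show chi _ = -1
  have h2n : chi ((2 : F)⁻¹ ^ n) = 1 := chi_eq_one_iff.2 ⟨(2 : F)⁻¹ ^ M, by rw [hn, ← pow_add, two_mul]⟩
  rw [hd1, chi_mul (pow_ne_zero _ (inv_ne_zero h2)) (mul_ne_zero hsum (inv_ne_zero (hdb ▸ hda))),
    chi_mul hsum (inv_ne_zero (hdb ▸ hda)), chi_inv (hdb ▸ hda), h2n, hsq, hdb, hdet, one_mul,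
    one_mul]

/-! ### Transport -/

section transport

variable [Fintype F] {κ : Type} [Fintype κ] [DecidableEq κ] {R : QuadraticForm F (κ → F)}

theorem xfer_value (f : (ι → F) ≃ₗ[F] (κ → F)) (hf : ∀ x, R (f x) = Q x)
    (g : Cfsg.isometryGroup F ⇑Q) (e : (ι → F) ≃ₗ[F] (ι → F)) (he : ∀ x, e x = act g x)
    (v : κ → F) : R (f.symm.trans (e.trans f) v) = R v := by
  rw [LinearEquiv.trans_apply, LinearEquiv.trans_apply, hf, he, act_map, ← hf, f.apply_symm_apply]

/-- Transport of isometries along an isometry of forms. -/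
noncomputable def xfer (f : (ι → F) ≃ₗ[F] (κ → F)) (hf : ∀ x, R (f x) = Q x) :
    Cfsg.isometryGroup F ⇑Q →* Cfsg.isometryGroup F ⇑R :=
  MonoidHom.mk'
    (fun g => isoOfEquiv _ _ (xfer_value f hf g
      (LinearEquiv.ofLinearMap (act g) (act g⁻¹)
        (LinearMap.ext fun x => by
          rw [LinearMap.comp_apply, ← act_mul, mul_inv_cancel, act_one]; rfl)
        (LinearMap.ext fun x => Spinor.act_inv_cancel g x)) fun x => rfl))
    fun g g' => Orth.act_ext fun v => by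
      rw [act_mul]
      simp only [act_apply, isoOfEquiv_mulVec]
      simp [LinearEquiv.trans_apply, act_mul, ← act_apply]

theorem act_xfer (f : (ι → F) ≃ₗ[F] (κ → F)) (hf : ∀ x, R (f x) = Q x)
    (g : Cfsg.isometryGroup F ⇑Q) (x : ι → F) : act (xfer f hf g) (f x) = f (act g x) := by
  rw [act_apply, xfer, MonoidHom.mk'_apply, isoOfEquiv_mulVec]
  simp [LinearEquiv.trans_apply]

theorem theta_xfer (hQ : (QuadraticMap.polarBilin Q).Nondegenerate)
    (hq : Fintype.card F ≠ 2 ∨ Fintype.card ι ≠ 4)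
    (hR : (QuadraticMap.polarBilin R).Nondegenerate)
    (hq' : Fintype.card F ≠ 2 ∨ Fintype.card κ ≠ 4)
    (f : (ι → F) ≃ₗ[F] (κ → F)) (hf : ∀ x, R (f x) = Q x) (g : Cfsg.isometryGroup F ⇑Q) :
    theta hR hq' (xfer f hf g) = theta hQ hq g := by
  refine theta_map hQ hq hR hq' (xfer f hf) f hf (fun v hv => ?_) g
  refine Orth.act_ext fun w => ?_
  obtain ⟨x, rfl⟩ := f.surjective w
  have hp : QuadraticMap.polar R (f v) (f x) = QuadraticMap.polar Q v x := by
    simp only [QuadraticMap.polar, ← map_add, hf]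
  rw [act_xfer, act_reflect, act_reflect, hf, hp, map_sub, map_smul]

end transport

end Cfsg.Agent.AutPOmega.SSFusion
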