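import Cfsg.Agent.Lib.AutPOmega.SemisimpleFusion.Block
import Cfsg.Agent.Lib.AutPOmega.InnDiag
import Cfsg.Agent.Lib.AutPOmega.SplitCount
import Cfsg.Agent.Lib.Classical.OmegaSum

/-!
# Fusion of semisimple elements of odd prime order in `Inndiag (PΩ)`, even dimension, `q` odd
-/

set_option autoImplicit false
set_option linter.unusedSectionVars false

namespace Cfsg.Agent.AutPOmega.SSFusion

open Matrix Polynomial Cfsg.Agent.Forms Cfsg.Agent.Forms.QuadStd Cfsg.Agent.Forms.Reflections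
open Cfsg.Agent.Classical Cfsg.Agent.Classical.Orth Cfsg.Agent.Classical.OmegaCrit
open Cfsg.Agent.Classical.StarFactor (Fac)

universe u

variable {F : Type u} [Field F] [Fintype F] {ι : Type} [Fintype ι] [DecidableEq ι]
variable {Q : QuadraticForm F (ι → F)} {M r i : ℕ}

omit [Fintype F] in
theorem isPlus_sum_swap {κ κ' : Type} {P : QuadraticForm F (κ → F)} {R : QuadraticForm F (κ' → F)}
    {k : ℕ} (h : OrthTypes.IsPlus (OrthTypes.sumQ P R) k) : OrthTypes.IsPlus (OrthTypes.sumQ R P) k :=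
  h.map (LinearEquiv.funCongrLeft F F (Equiv.sumComm κ' κ)) fun v => by
    rw [OrthTypes.sumQ_apply, OrthTypes.sumQ_apply, add_comm]
    rfl

/-- Split off a block carrying a centralising isometry of spinor norm `-1`. -/
theorem exists_split (h2 : (2 : F) ≠ 0) (hS : OrthPrimeClasses.Setting F r i) {n : ℕ}
    {s : Multiset F[X]} (hs : OrthPrimeClasses.Good r n s) {p : F[X]} (hp : p ∈ s)
    (hp1 : p ≠ X - C 1) :
    ∃ (t₀ t : Multiset F[X]) (bp : Bool), s = t₀ + t ∧ t.map (StarFactor.star r) = t ∧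
      (∀ x ∈ t₀, x ≠ X - C 1) ∧ HasSpin h2 r t₀ bp := by
  classical
  have hpf : Fac r p := ⟨(hs.1.1 p hp).1, (hs.1.1 p hp).2.1, (hs.1.1 p hp).2.2, hp1⟩
  haveI := Fact.mk hS.prime
  obtain ⟨hsf, hss⟩ := hpf.star_fac hS.cast_ne hS.deg
  have hs' : StarFactor.star r p ∈ s := by
    rw [← hs.2]; exact Multiset.mem_map_of_mem _ hp
  have hinv := hs.2
  obtain ⟨t, rfl⟩ := Multiset.exists_cons_of_mem hp
  by_cases hfix : StarFactor.star r p = p
  · rw [Multiset.map_cons, hfix, Multiset.cons_inj_right] at hinv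
    exact ⟨{p}, t, false, (Multiset.singleton_add p t).symm, hinv,
      fun x hx => by rw [Multiset.mem_singleton.1 hx]; exact hp1, hasSpin_single h2 hS hpf hfix⟩
  · obtain ⟨t', rfl⟩ := Multiset.exists_cons_of_mem ((Multiset.mem_cons.1 hs').resolve_left hfix)
    rw [Multiset.map_cons, Multiset.map_cons, hss, Multiset.cons_swap, Multiset.cons_inj_right,
      Multiset.cons_inj_right] at hinv
    refine ⟨{p, StarFactor.star r p}, t', true, by simp [Multiset.insert_eq_cons], hinv,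
      fun x hx => ?_, hasSpin_pair h2 hS.prime.one_le hpf⟩
    rw [Multiset.insert_eq_cons, Multiset.mem_cons, Multiset.mem_singleton] at hx
    rcases hx with rfl | rfl
    · exact hp1
    · exact hsf.ne

theorem ne_one_factor (hS : OrthPrimeClasses.Setting F r i)
    (hQ : (QuadraticMap.polarBilin Q).Nondegenerate) {s : Multiset F[X]}
    {A : Matrix ι ι F} (hA : OrthRealise.IsoDatum r s Q A) (hne : A ≠ 1)
    (hs : OrthPrimeClasses.Good r (Fintype.card ι) s) :
    ∃ p ∈ s, p ≠ X - C 1 := by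
  by_contra hall
  push Not at hall
  have hrep : s = Multiset.replicate (Multiset.card s) (X - C 1) :=
    Multiset.eq_replicate.2 ⟨rfl, hall⟩
  have hcard : Multiset.card s = Fintype.card ι := by
    have h := hs.1.2
    rwa [hrep, Multiset.map_replicate, natDegree_X_sub_C, Multiset.sum_replicate, smul_eq_mul,
      mul_one] at h
  have hc : A.charpoly = (1 : Matrix ι ι F).charpoly := by
    rw [hA.char, hrep, Multiset.prod_replicate, Matrix.charpoly_one, map_one, hcard]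
  obtain ⟨f, -, hfA⟩ := OrthRealise.exists_intertwine (hS.prime.odd_of_ne_two hS.ne_two) hS.cast_ne
    hQ hA.pres hA.pow (fun v => by rw [Matrix.one_mulVec]) (one_pow r) hc (LinearEquiv.refl F _)
    (fun x => rfl)
  exact hne (Matrix.ext_iff_mulVec.2 fun v => by
    rw [Matrix.one_mulVec]
    exact f.injective ((hfA v).trans (Matrix.one_mulVec _)))

set_option maxHeartbeats 800000 in
/-- An isometry of spinor norm `-1` centralising `h0`. -/
theorem exists_spin (h2 : (2 : F) ≠ 0) (hS : OrthPrimeClasses.Setting F r i)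
    (hQ : (QuadraticMap.polarBilin Q).Nondegenerate) (hn : Fintype.card ι = 2 * M)
    (hq : Fintype.card F ≠ 2 ∨ Fintype.card ι ≠ 4) {h0 : Cfsg.isometryGroup F ⇑Q}
    (hh : h0 ^ r = 1) (hne : h0 ≠ 1) :
    ∃ s : Cfsg.isometryGroup F ⇑Q, s * h0 = h0 * s ∧ theta hQ hq s = (1, -1) := by
  classical
  have hodd := hS.prime.odd_of_ne_two hS.ne_two
  obtain ⟨s, hs, hA⟩ := OrthPrimeClasses.exists_good hS hQ (A := mx h0) (fun v => iso_mulVec h0 v)
    (by rw [← mx_pow, hh, mx_one])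
  obtain ⟨p, hp, hp1⟩ := ne_one_factor hS hQ hA (fun e => hne (mx_ext (e.trans mx_one.symm))) hs
  rw [hn] at hs
  obtain ⟨t₀, t, bp, rfl, htinv, ht₀, κ, _, _, k, P, hP, h, s', hk, hB, hbp, hcomm, hθ⟩ :=
    exists_split h2 hS hs hp hp1
  have hmem₀ : ∀ x ∈ t₀, x.Monic := fun x hx => hs.monic x (Multiset.mem_add.2 (Or.inl hx))
  have hdeg₀ : (t₀.map natDegree).sum = 2 * k := by
    rw [OrthPrimeClasses.sum_degree_of_datum hB hmem₀, hk]
  have hdegs := hs.1.2
  rw [Multiset.map_add, Multiset.sum_add, hdeg₀] at hdegs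
  have hkM : k ≤ M := by omega
  have ht : OrthPrimeClasses.Good r (2 * (M - k)) t :=
    ⟨⟨fun x hx => hs.1.1 x (Multiset.mem_add.2 (Or.inr hx)), by omega⟩, htinv⟩
  -- the complement, with the right type
  obtain ⟨μ, _, _, R, B', hμ, hB', htype⟩ : ∃ (μ : Type) (_ : Fintype μ) (_ : DecidableEq μ)
      (R : QuadraticForm F (μ → F)) (B' : Matrix μ μ F), Fintype.card μ = 2 * (M - k) ∧
      OrthRealise.IsoDatum r t R B' ∧ (OrthTypes.IsPlus (OrthTypes.sumQ P R) M ↔ OrthTypes.IsPlus Q M) := by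
    have getk : ∀ {μ : Type} [Fintype μ] [DecidableEq μ] {k' : ℕ} {R : QuadraticForm F (μ → F)}
        {B' : Matrix μ μ F}, Fintype.card μ = 2 * k' → OrthRealise.IsoDatum r t R B' →
        k' = M - k := by
      intro μ _ _ k' R B' hμ hB'
      have := OrthPrimeClasses.sum_degree_of_datum hB' ht.monic
      rw [ht.1.2] at this
      omega
    by_cases hz : X - C 1 ∈ t₀ + t
    · have hzt : X - C 1 ∈ t :=
        (Multiset.mem_add.1 hz).resolve_left fun h' => ht₀ _ h' rfl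
      obtain ⟨μ, _, _, k', R, B', hμ, hB', hb⟩ :=
        OrthPrimeClasses.real_of_good hS ht (bp == decide (OrthTypes.IsPlus Q M)) (Or.inl hzt)
      obtain rfl := getk hμ hB'
      refine ⟨μ, inferInstance, inferInstance, R, B', hμ, hB', ?_⟩
      have eM : k + (M - k) = M := by omega
      have eM' : M - k + k = M := by omega
      by_cases hQp : OrthTypes.IsPlus Q M
      · refine iff_of_true ?_ hQp
        cases bp
        · have hPn : ¬ OrthTypes.IsPlus P k := fun h' => Bool.false_ne_true (hbp.1 h')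
          have hRn : ¬ OrthTypes.IsPlus R (M - k) := fun h' => by simp [hQp] at hb; exact hb h'
          have := OrthTypes.isPlus_sum_minus hk hμ hB.nd hB'.nd hPn hRn
          rwa [eM] at this
        · have := OrthTypes.isPlus_sum (hbp.2 rfl) (hb.2 (by simp [hQp]))
          rwa [eM] at this
      · refine iff_of_false ?_ hQp
        cases bp
        · intro hsum
          have hPn : ¬ OrthTypes.IsPlus P k := fun h' => Bool.false_ne_true (hbp.1 h')
          refine OrthTypes.not_isPlus_sum hμ hk hB'.nd hB.nd (hb.2 (by simp [hQp])) hPn ?_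
          rw [eM']
          exact isPlus_sum_swap hsum
        · intro hsum
          have hRn : ¬ OrthTypes.IsPlus R (M - k) := fun h' => by simp [hQp] at hb; exact hb h'
          refine OrthTypes.not_isPlus_sum hk hμ hB.nd hB'.nd (hbp.2 rfl) hRn ?_
          rw [eM]
          exact hsum
    · have htf : ∀ x ∈ t, Fac r x := fun x hx =>
        ⟨(ht.1.1 x hx).1, (ht.1.1 x hx).2.1, (ht.1.1 x hx).2.2,
          fun e => hz (Multiset.mem_add.2 (Or.inr (e ▸ hx)))⟩
      obtain ⟨br, ⟨μ, _, _, k', R, B', hμ, hB', -⟩, -⟩ :=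
        OrthPrimeClasses.real_no_ones hS t htf htinv
      obtain rfl := getk hμ hB'
      have hcs : Fintype.card (κ ⊕ μ) = 2 * M := by rw [Fintype.card_sum, hk, hμ]; omega
      have h1 := OrthPrimeClasses.eval_one_ne hS hs hz
      exact ⟨μ, inferInstance, inferInstance, R, B', hμ, hB',
        OrthPrimeClasses.type_unique hS hcs hn (hB.sum hB') hA h1,
        OrthPrimeClasses.type_unique hS hn hcs hA (hB.sum hB') h1⟩
  have hcs : Fintype.card (κ ⊕ μ) = 2 * M := by rw [Fintype.card_sum, hk, hμ]; omega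
  have hsum := hB.sum hB'
  obtain ⟨e, he⟩ := OrthTypes.exists_isometry hcs hn hsum.nd hQ htype
  obtain ⟨f, hf, hfA⟩ := OrthRealise.exists_intertwine hodd hS.cast_ne hQ hsum.pres hsum.pow
    hA.pres hA.pow (hsum.char.trans hA.char.symm) e he
  obtain ⟨hR, -, hRm⟩ := OrthRealise.exists_elt hS.prime.pos ⇑R B' hB'.pres hB'.pow
  have hf' : ∀ x, Q (f x) = OmegaSum.sumQ P R x := hf
  have hH : xfer f hf' (OmegaSum.blockIso P R (h, hR)) = h0 := by
    refine Orth.act_ext fun y => ?_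
    obtain ⟨x, rfl⟩ := f.surjective y
    rw [act_xfer, act_apply (Q := OmegaSum.sumQ P R), OmegaSum.blockIso_val, hRm, act_apply h0]
    exact hfA x
  refine ⟨xfer f hf' (OmegaSum.blockIso P R (s', 1)), ?_, ?_⟩
  · rw [← hH, ← map_mul, ← map_mul, ← map_mul, ← map_mul, Prod.mk_mul_mk, Prod.mk_mul_mk,
      one_mul, mul_one, hcomm]
  · rw [theta_xfer (OmegaSum.sumQ_nondeg hP hB'.nd) (Or.inl (card_ne_two h2)) hQ hq f hf']
    exact (OmegaSum.theta_left hP hB'.nd (Or.inl (card_ne_two h2)) (Or.inl (card_ne_two h2)) s').trans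
      hθ

/-- A nonsingular fixed vector, when there is a fixed vector. -/
theorem exists_fixed_nonsing (h2 : (2 : F) ≠ 0) (hQ : (QuadraticMap.polarBilin Q).Nondegenerate)
    (hri : (r : F) ≠ 0) {h0 : Cfsg.isometryGroup F ⇑Q} (hh : h0 ^ r = 1)
    (hfix : ¬ ∀ v, act h0 v = v → v = 0) : ∃ v, act h0 v = v ∧ Q v ≠ 0 := by
  let W : Submodule F (ι → F) :=
    { carrier := {v | act h0 v = v}
      add_mem' := fun {a b} ha hb => by
        show act h0 (a + b) = a + b
        rw [map_add, ha, hb]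
      zero_mem' := map_zero _
      smul_mem' := fun t v hv => by
        show act h0 (t • v) = t • v
        rw [map_smul, hv] }
  have hfixpow : ∀ (j : ℕ) {v : ι → F}, act h0 v = v → act (h0 ^ j) v = v := by
    intro j
    induction j with
    | zero => intro v _; rw [pow_zero, act_one]
    | succ j ih => intro v hv; rw [pow_succ, act_mul, hv, ih hv]
  have hW : Bases.NondegOn (polB Q) W := by
    intro x hx hxy
    refine hQ.1 x fun z => ?_
    have hsum : (∑ j ∈ Finset.range r, act (h0 ^ j) z) ∈ W := by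
      show act h0 _ = _
      rw [map_sum]
      simp only [← act_mul, ← pow_succ']
      have e1 := Finset.sum_range_succ' (fun j => act (h0 ^ j) z) r
      have e2 := Finset.sum_range_succ (fun j => act (h0 ^ j) z) r
      rw [e2, hh] at e1
      simp only [pow_zero] at e1
      exact (add_right_cancel e1).symm
    have h0' := hxy _ hsum
    rw [polB_apply] at h0'
    have hx' : act h0 x = x := hx
    have e : QuadraticMap.polar Q x (∑ j ∈ Finset.range r, act (h0 ^ j) z) =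
        (r : F) * QuadraticMap.polar Q x z := by
      rw [← QuadraticMap.polarBilin_apply_apply, map_sum]
      simp only [QuadraticMap.polarBilin_apply_apply]
      rw [Finset.sum_congr rfl fun j _ => (?_ : _ = QuadraticMap.polar Q x z)]
      · rw [Finset.sum_const, Finset.card_range, nsmul_eq_mul]
      · conv_lhs => rw [← hfixpow j hx']
        rw [act_polar]
    rw [e] at h0'
    exact (mul_eq_zero.1 h0').resolve_left hri
  push Not at hfix
  obtain ⟨v, hv, hv0⟩ := hfix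
  obtain ⟨u, hu, hQu⟩ := nondeg_val hW rfl (Submodule.ne_bot_iff W |>.2 ⟨v, hv, hv0⟩)
  exact ⟨u, hu, hQu⟩

variable (E : EvenSetup Q M)

include E

/-- A class-preserving similitude with non-square factor centralising `h0`. -/
theorem exists_cls_sim (h2 : (2 : F) ≠ 0) (hS : OrthPrimeClasses.Setting F r i)
    {h0 : Cfsg.isometryGroup F ⇑Q} (hh : h0 ^ r = 1) :
    ∃ u : GO Q, E.cls u = 1 ∧ chi (muC u : F) = -1 ∧ u * ofIso Q h0 = ofIso Q h0 * u := by
  obtain ⟨c, hc⟩ := (E.toSetup h2).exists_nonsq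
  obtain ⟨d, hd, -⟩ := E.hD h2 c
  obtain ⟨t, ht⟩ := exists_comm_sim E.hQ (hS.prime.odd_of_ne_two hS.ne_two) hS.cast_ne hh d
  have hmu : muC (ofIso Q t * d) = c := by rw [E.muC_mul, E.muC_ofIso, one_mul, hd]
  by_cases hcls : E.cls (ofIso Q t * d) = 1
  · exact ⟨_, hcls, by rw [hmu, hc], ht⟩
  have hfix : ¬ ∀ v, act h0 v = v → v = 0 := fun hall => hcls ((E.cls_eq_one_iff _).2 (Or.inl
    ⟨h2, det_comm_sim h2 E.hQ E.hM (by have := E.hn; have := E.hM; omega)
      (hS.prime.odd_of_ne_two hS.ne_two) hh hall _ ht⟩))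
  obtain ⟨v, hv, hQv⟩ := exists_fixed_nonsing h2 E.hQ hS.cast_ne hh hfix
  have hR : reflect Q v * h0 = h0 * reflect Q v := by
    have := Spinor.reflect_conj h0 v
    rw [hv] at this
    exact (mul_inv_eq_iff_eq_mul.1 this).symm
  refine ⟨ofIso Q (reflect Q v) * (ofIso Q t * d), ?_, ?_, ?_⟩
  · rw [map_mul, E.cls_reflect hQv, (Int.units_eq_one_or _).resolve_left hcls]
    rfl
  · rw [E.muC_mul, hmu, E.muC_ofIso, one_mul, hc]
  · rw [mul_assoc, ht, ← mul_assoc, ← map_mul, hR, map_mul, mul_assoc]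

/-- An isometry of order `r` inducing a given automorphism of order `r`. -/
theorem exists_lift (h2 : (2 : F) ≠ 0) (hS : OrthPrimeClasses.Setting F r i)
    (x : MulAut (Cfsg.POmega F ⇑Q)) (hx : x ∈ Cfsg.pgoAut F ⇑Q) (hxr : orderOf x = r) :
    ∃ h0 : Cfsg.isometryGroup F ⇑Q, h0 ^ r = 1 ∧ h0 ≠ 1 ∧ gAut Q (ofIso Q h0) = x := by
  rw [pgoAut_eq] at hx
  obtain ⟨g, rfl⟩ := hx
  haveI : Finite (GL ι F) := inferInstance
  have hN : orderOf g ≠ 0 := (isOfFinOrder_of_finite g).orderOf_pos.ne'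
  obtain ⟨a, t, hto, hN'⟩ := Nat.exists_eq_pow_mul_and_not_dvd hN 2 (by norm_num)
  have htodd : Odd t := Nat.odd_iff.2 (by omega)
  obtain ⟨e, he1, he2⟩ := Nat.chineseRemainder
    (((Nat.coprime_primes hS.prime Nat.prime_two).2 hS.ne_two).pow_right a) 1 0
  set h := g ^ e with hhdef
  have hht : h ^ t = 1 := by
    rw [hhdef, ← pow_mul]
    refine orderOf_dvd_iff_pow_eq_one.1 ?_
    rw [hN']
    exact mul_dvd_mul_right (Nat.modEq_zero_iff_dvd.1 he2) t
  have himg : gAut Q h = gAut Q g := by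
    rw [hhdef, map_pow, ← pow_mod_orderOf, hxr, he1, Nat.mod_eq_of_lt hS.prime.one_lt, pow_one]
  obtain ⟨j, hj⟩ := htodd
  set S := E.toSetup h2
  have hmt : muC h ^ t = 1 := by
    rw [← S.muH_apply, ← map_pow, hht, map_one]
  set b := muC h ^ (j + 1) with hb
  have hbt : b ^ t = 1 := by rw [hb, pow_right_comm, hmt, one_pow]
  have hbb : b * b = muC h := by
    rw [hb, ← pow_add, show j + 1 + (j + 1) = t + 1 by omega, pow_succ, hmt, one_mul]
  set h' := scal Q b⁻¹ * h with hh'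
  have hscal : ∀ (c : Fˣ) (k : ℕ), scal Q c ^ k = scal Q (c ^ k) := fun c k => by
    induction k with
    | zero => rw [pow_zero, pow_zero, scal_one]
    | succ k ih => rw [pow_succ, pow_succ, scal_mul, ih]
  have h't : h' ^ t = 1 := by
    rw [hh', (show Commute (scal Q b⁻¹) h from scal_comm _ _).mul_pow, hht, hscal, inv_pow, hbt,
      inv_one, scal_one, one_mul]
  have hmu' : muC h' = 1 := by
    rw [hh', E.muC_mul, E.muC_scal, ← mul_inv, hbb, inv_mul_cancel]
  have hiso : ∀ v, Q (mat h' *ᵥ v) = Q v := fun v => by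
    rw [muC_spec, hmu', Units.val_one, one_mul]
  have himg' : gAut Q (ofIso Q (toIso h' hiso)) = gAut Q g := by
    rw [ofIso_toIso, hh', map_mul, gAut_scal, one_mul, himg]
  set h1 := toIso h' hiso
  have h1t : h1 ^ t = 1 := ofIso_injective (by rw [map_pow, ofIso_toIso, h't, map_one])
  obtain ⟨c, hc⟩ := (gAut_eq_one_iff E.hQ E.fr E.hn5 (ofIso Q (h1 ^ r))).1 (by
    rw [map_pow, map_pow, himg', ← hxr, pow_orderOf_eq_one])
  have hcc : c * c = 1 := by rw [← E.muC_scal, ← hc, E.muC_ofIso]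
  refine ⟨h1, ofIso_injective ?_, fun e1 => ?_, himg'⟩
  · rw [map_one, hc]
    have e2 : scal Q c ^ t = 1 := by
      rw [← hc, ← map_pow, ← pow_mul, mul_comm, pow_mul, h1t, one_pow, map_one]
    rwa [hscal, hj, pow_succ, pow_mul, pow_two, hcc, one_pow, one_mul] at e2
  · rw [e1, map_one, map_one] at himg'
    rw [← himg', orderOf_one] at hxr
    exact hS.prime.ne_one hxr.symm

/-- The fusion statements. -/
theorem fusion (h2 : (2 : F) ≠ 0) (hS : OrthPrimeClasses.Setting F r i)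
    (x : MulAut (Cfsg.POmega F ⇑Q)) (hx : x ∈ Cfsg.pgoAut F ⇑Q) (hxr : orderOf x = r) :
    (∀ y, (Cfsg.IsConjUnder (Cfsg.Inn (Cfsg.POmega F ⇑Q)) x y ↔
        Cfsg.IsConjUnder (E.cls.ker.map (gAut Q)) x y) ∧
      (Cfsg.IsConjUnder (Cfsg.psoAut F ⇑Q) x y ↔
        Cfsg.IsConjUnder (E.cls.ker.map (gAut Q)) x y)) ∧
    (∀ y, Cfsg.IsConjUnder (Cfsg.poAut F ⇑Q) x y ↔
        Cfsg.IsConjUnder (Cfsg.pgoAut F ⇑Q) x y) := by
  obtain ⟨h0, hh, hne, rfl⟩ := exists_lift E h2 hS x hx hxr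
  obtain ⟨s, hsc, hsθ⟩ := exists_spin h2 hS E.hQ E.hM E.hq hh hne
  obtain ⟨u, hucls, humu, huc⟩ := exists_cls_sim E h2 hS hh
  have hspar : par s = 1 := by rw [← theta_fst E.hQ E.hq, hsθ]
  set x := gAut Q (ofIso Q h0) with hx0
  -- stabilisers
  have hstab : ∀ w g : GO Q, w * ofIso Q h0 = ofIso Q h0 * w →
      gAut Q (g * w) * x * (gAut Q (g * w))⁻¹ = gAut Q g * x * (gAut Q g)⁻¹ := by
    intro w g hw
    have hw' : gAut Q w * x * (gAut Q w)⁻¹ = x := by
      rw [hx0, ← map_mul, hw, map_mul, mul_inv_cancel_right]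
    rw [map_mul, _root_.mul_inv_rev]
    conv_rhs => rw [← hw']
    group
  have hscal : ∀ (a : Fˣ) (g : GO Q), gAut Q (scal Q a * g) = gAut Q g := fun a g => by
    rw [map_mul, gAut_scal, one_mul]
  -- reduce the factor
  have hred : ∀ g : GO Q, ∃ (a : Fˣ) (w : Cfsg.isometryGroup F ⇑Q),
      (E.cls g = 1 → par w = 1) ∧
        gAut Q g * x * (gAut Q g)⁻¹ =
          gAut Q (scal Q a * ofIso Q w) * x * (gAut Q (scal Q a * ofIso Q w))⁻¹ := by
    intro g
    obtain ⟨g', hsq, hcls', hconj⟩ : ∃ g' : GO Q, chi (muC g' : F) = 1 ∧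
        (E.cls g = 1 → E.cls g' = 1) ∧
        gAut Q g * x * (gAut Q g)⁻¹ = gAut Q g' * x * (gAut Q g')⁻¹ := by
      rcases Int.units_eq_one_or (chi (muC g : F)) with h | h
      · exact ⟨g, h, id, rfl⟩
      · refine ⟨g * u, ?_, fun hg => by rw [map_mul, hg, hucls, one_mul], (hstab u g huc).symm⟩
        rw [E.muC_mul, Units.val_mul, chi_mul (muC g).ne_zero (muC u).ne_zero, h, humu]
        rfl
    obtain ⟨b, hb⟩ := chi_eq_one_iff.1 hsq
    have hb0 : b ≠ 0 := fun h0 => (muC g').ne_zero (by rw [hb, h0, mul_zero])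
    have hiso : ∀ v, Q (mat ((scal Q (Units.mk0 b hb0))⁻¹ * g') *ᵥ v) = Q v := fun v => by
      have e : muC ((scal Q (Units.mk0 b hb0))⁻¹ * g') = 1 := by
        have e1 := E.muC_mul (scal Q (Units.mk0 b hb0)) ((scal Q (Units.mk0 b hb0))⁻¹ * g')
        rw [mul_inv_cancel_left, E.muC_scal,
          show muC g' = Units.mk0 b hb0 * Units.mk0 b hb0 from Units.ext hb] at e1
        exact left_eq_mul.1 e1
      rw [muC_spec, e, Units.val_one, one_mul]
    refine ⟨Units.mk0 b hb0, toIso _ hiso, fun hg => ?_, ?_⟩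
    · rw [← E.cls_ofIso, ofIso_toIso, map_mul, map_inv, E.cls_scal, inv_one, one_mul, hcls' hg]
    · rw [hconj, ofIso_toIso, mul_inv_cancel_left]
  -- inner fusion
  have hinn : ∀ g : GO Q, E.cls g = 1 → ∃ j ∈ Cfsg.Inn (Cfsg.POmega F ⇑Q),
      gAut Q g * x * (gAut Q g)⁻¹ = j * x * j⁻¹ := by
    intro g hg
    obtain ⟨a, w, hw, hconj⟩ := hred g
    rw [hconj, hscal]
    have hwp := hw hg
    rcases Int.units_eq_one_or (theta E.hQ E.hq w).2 with hθ | hθ
    · refine ⟨_, (gAut_mem_inn_iff E.hQ E.fr E.hn5 _).2 ⟨1, w,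
        (mem_omega_iff E.hQ E.hq w).2 (Prod.ext hwp hθ), by rw [scal_one, one_mul]⟩, rfl⟩
    · refine ⟨_, (gAut_mem_inn_iff E.hQ E.fr E.hn5 (ofIso Q (w * s))).2 ⟨1, w * s,
        (mem_omega_iff E.hQ E.hq _).2 ?_, by rw [scal_one, one_mul]⟩, ?_⟩
      · rw [map_mul, hsθ]
        exact Prod.ext (by rw [Prod.fst_mul, theta_fst, hwp]; rfl)
          (by rw [Prod.snd_mul, hθ]; rfl)
      · rw [map_mul, hstab _ _ (by rw [← map_mul, hsc, map_mul])]
  have hpso : Cfsg.psoAut F ⇑Q ≤ E.cls.ker.map (gAut Q) := by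
    rw [psoAut_eq]
    refine Subgroup.map_mono fun g hg => ?_
    obtain ⟨w, hw, rfl⟩ := ((E.toSetup h2).mem_soGO_iff g).1 hg
    rw [MonoidHom.mem_ker, E.cls_ofIso, hw]
  have hinnpso : Cfsg.Inn (Cfsg.POmega F ⇑Q) ≤ Cfsg.psoAut F ⇑Q := by
    rintro _ ⟨q, rfl⟩
    induction q using QuotientGroup.induction_on with | H w => ?_
    rw [conj_mk_eq, psoAut_eq]
    exact ⟨_, ((E.toSetup h2).mem_soGO_iff _).2 ⟨w.1, par_omega E.hQ E.hq w.2, rfl⟩, rfl⟩
  have key : ∀ y, Cfsg.IsConjUnder (E.cls.ker.map (gAut Q)) x y →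
      Cfsg.IsConjUnder (Cfsg.Inn (Cfsg.POmega F ⇑Q)) x y := by
    rintro y ⟨_, ⟨g, hg, rfl⟩, rfl⟩
    obtain ⟨j, hj, hjc⟩ := hinn g hg
    exact ⟨j, hj, hjc⟩
  refine ⟨fun y => ⟨⟨fun ⟨j, hj, hy⟩ => ⟨j, hpso (hinnpso hj), hy⟩, key y⟩,
    ⟨fun ⟨j, hj, hy⟩ => ⟨j, hpso hj, hy⟩, fun h => ?_⟩⟩, fun y => ⟨?_, ?_⟩⟩
  · obtain ⟨j, hj, hy⟩ := key y h
    exact ⟨j, hinnpso hj, hy⟩
  · rintro ⟨j, hj, hy⟩
    rw [poAut_eq] at hj
    obtain ⟨g, -, rfl⟩ := hj
    exact ⟨_, by rw [pgoAut_eq]; exact ⟨g, rfl⟩, hy⟩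
  · rintro ⟨j, hj, rfl⟩
    rw [pgoAut_eq] at hj
    obtain ⟨g, rfl⟩ := hj
    obtain ⟨a, w, -, hconj⟩ := hred g
    rw [hscal] at hconj
    exact ⟨_, by rw [poAut_eq]; exact ⟨_, ⟨w, rfl⟩, rfl⟩, hconj⟩

omit E in
/-- The standing hypotheses on the prime. -/
theorem exists_setting {p : ℕ} [Fact p.Prime] [CharP F p] {r : ℕ} (hr : r.Prime) (hr2 : r ≠ 2)
    (hrp : r ≠ p) : ∃ i, OrthPrimeClasses.Setting F r i := by
  haveI := Fact.mk hr
  have hd : orderOf ((Fintype.card F : ℕ) : ZMod r) ∣ r - 1 := by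
    refine ZMod.orderOf_dvd_card_sub_one fun h => hrp ?_
    obtain ⟨f, hp, hpf⟩ := FiniteField.card F p
    rw [ZMod.natCast_eq_zero_iff, hpf] at h
    exact (Nat.prime_dvd_prime_iff_eq hr hp).1 (hr.dvd_of_dvd_pow h)
  obtain ⟨t, ht⟩ := hd
  exact ⟨_, (OrthPrimeClasses.setting_of rfl hr hr2 hrp rfl (by rw [mul_comm]; exact ht.symm)).1⟩

end Cfsg.Agent.AutPOmega.SSFusion
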