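import Cfsg.Agent.Lib.Classical.OmegaPlus
import Cfsg.Agent.Lib.Classical.OrthEichler

/-!
# Spinor norms from a block decomposition

In odd characteristic an isometry of `plusQ` whose upper left block `A` is invertible has spinor
norm `det A`; hence an isometry `g` with `1 + g` invertible has spinor norm `det ((1 + g) / 2)`.
-/

set_option autoImplicit false
set_option linter.unusedSectionVars false

namespace Cfsg.Agent.AutPOmega.SSFusion

open Matrix Cfsg.Agent.Forms Cfsg.Agent.Forms.QuadStd Cfsg.Agent.Forms.Reflections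
open Cfsg.Agent.Forms.PlusStd Cfsg.Agent.Classical Cfsg.Agent.Classical.OmegaCrit

variable {F : Type*} [Field F] {m : ℕ}

local notation "M2" => Matrix (Fin m ⊕ Fin m) (Fin m ⊕ Fin m) F

/-- the matrix of an isometry -/
abbrev mx {ι : Type} [Fintype ι] [DecidableEq ι] {Q : (ι → F) → F}
    (g : Cfsg.isometryGroup F Q) : Matrix ι ι F :=
  ((g : GL ι F) : Matrix ι ι F)

theorem mx_mul {ι : Type} [Fintype ι] [DecidableEq ι] {Q : (ι → F) → F}
    (g h : Cfsg.isometryGroup F Q) : mx (g * h) = mx g * mx h := rfl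

theorem mx_ext {ι : Type} [Fintype ι] [DecidableEq ι] {Q : (ι → F) → F}
    {g h : Cfsg.isometryGroup F Q} (e : mx g = mx h) : g = h :=
  Subtype.ext (Units.ext e)

theorem polar_eq_dot (u v : Fin m ⊕ Fin m → F) :
    QuadraticMap.polar (plusQ F m) u v =
      u ⬝ᵥ ((fromBlocks 0 1 1 0 : M2) *ᵥ v) := by
  rw [plusQ_polar, fromBlocks_mulVec]
  simp [dotProduct, Fintype.sum_sum_type, Finset.sum_add_distrib]

/-- the three relations between the blocks -/
theorem block_rel (g : Cfsg.isometryGroup F ⇑(plusQ F m)) :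
    (mx g).toBlocks₂₁ᵀ * (mx g).toBlocks₁₁ + (mx g).toBlocks₁₁ᵀ * (mx g).toBlocks₂₁ = 0 ∧
    (mx g).toBlocks₂₁ᵀ * (mx g).toBlocks₁₂ + (mx g).toBlocks₁₁ᵀ * (mx g).toBlocks₂₂ = 1 ∧
    (mx g).toBlocks₂₂ᵀ * (mx g).toBlocks₁₂ + (mx g).toBlocks₁₂ᵀ * (mx g).toBlocks₂₂ = 0 := by
  have h : (mx g)ᵀ * fromBlocks 0 1 1 0 * mx g = (fromBlocks 0 1 1 0 : M2) := by
    ext i j
    have hp := act_polar g (Pi.single i (1 : F)) (Pi.single j 1)
    rw [act_apply, act_apply, polar_eq_dot, polar_eq_dot,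
      dotProduct_mulVec, ← vecMul_transpose, vecMul_vecMul, dotProduct_mulVec,
      vecMul_vecMul] at hp
    simpa [vecMul, dotProduct, Pi.single_apply] using hp
  rw [← fromBlocks_toBlocks (mx g), fromBlocks_transpose, fromBlocks_multiply,
    fromBlocks_multiply, fromBlocks_inj] at h
  obtain ⟨h1, h2, -, h4⟩ := h
  simp only [Matrix.mul_zero, Matrix.mul_one, zero_add, add_zero, toBlocks_fromBlocks₁₁,
    toBlocks_fromBlocks₁₂, toBlocks_fromBlocks₂₁, toBlocks_fromBlocks₂₂] at h1 h2 h4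
  exact ⟨h1, h2, h4⟩

theorem dot_skew (h2 : (2 : F) ≠ 0) {K : Matrix (Fin m) (Fin m) F} (hK : Kᵀ = -K)
    (u : Fin m → F) : u ⬝ᵥ (K *ᵥ u) = 0 := by
  have h : u ⬝ᵥ (K *ᵥ u) = -(u ⬝ᵥ (K *ᵥ u)) := by
    conv_lhs => rw [dotProduct_mulVec, ← mulVec_transpose, hK, neg_mulVec, neg_dotProduct,
      dotProduct_comm]
  exact (mul_eq_zero.1 (show (2 : F) * (u ⬝ᵥ (K *ᵥ u)) = 0 by linear_combination h)).resolve_left h2

theorem plus_dot (v : Fin m ⊕ Fin m → F) :
    plusQ F m v = (v ∘ Sum.inl) ⬝ᵥ (v ∘ Sum.inr) := by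
  rw [plusQ_apply]; rfl

variable (h2 : (2 : F) ≠ 0)

/-- lower unipotent -/
noncomputable def lowU (K : Matrix (Fin m) (Fin m) F) (hK : Kᵀ = -K) :
    Cfsg.isometryGroup F ⇑(plusQ F m) :=
  ⟨⟨fromBlocks 1 0 K 1, fromBlocks 1 0 (-K) 1,
      by simp [fromBlocks_multiply, fromBlocks_one],
      by simp [fromBlocks_multiply, fromBlocks_one]⟩,
    (mem_isometry_iff _ _).2 fun v => by
      show plusQ F m (fromBlocks 1 0 K 1 *ᵥ v) = _
      rw [plus_dot, plus_dot, fromBlocks_mulVec]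
      simp only [Sum.elim_comp_inl, Sum.elim_comp_inr, Matrix.one_mulVec, Matrix.zero_mulVec,
        add_zero, dotProduct_add, dot_skew h2 hK, zero_add]⟩

/-- upper unipotent -/
noncomputable def upU (K : Matrix (Fin m) (Fin m) F) (hK : Kᵀ = -K) :
    Cfsg.isometryGroup F ⇑(plusQ F m) :=
  ⟨⟨fromBlocks 1 K 0 1, fromBlocks 1 (-K) 0 1,
      by simp [fromBlocks_multiply, fromBlocks_one],
      by simp [fromBlocks_multiply, fromBlocks_one]⟩,
    (mem_isometry_iff _ _).2 fun v => by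
      show plusQ F m (fromBlocks 1 K 0 1 *ᵥ v) = _
      rw [plus_dot, plus_dot, fromBlocks_mulVec]
      simp only [Sum.elim_comp_inl, Sum.elim_comp_inr, Matrix.one_mulVec, Matrix.zero_mulVec,
        add_zero, zero_add, add_dotProduct]
      rw [dotProduct_comm (K *ᵥ _), dot_skew h2 hK, add_zero]⟩

variable [Fintype F] (h : Fintype.card F ≠ 2 ∨ Fintype.card (Fin m ⊕ Fin m) ≠ 4)

omit h2 h in
theorem half_skew {K : Matrix (Fin m) (Fin m) F} (hK : Kᵀ = -K) :
    ((2 : F)⁻¹ • K)ᵀ = -((2 : F)⁻¹ • K) := by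
  rw [transpose_smul, hK, smul_neg]

theorem theta_lowU (K : Matrix (Fin m) (Fin m) F) (hK : Kᵀ = -K) :
    theta (plusQ_nondeg F m) h (lowU h2 K hK) = 1 := by
  have e : lowU h2 K hK = lowU h2 _ (half_skew hK) * lowU h2 _ (half_skew hK) := mx_ext (by
    show fromBlocks 1 0 K 1 = fromBlocks 1 0 ((2 : F)⁻¹ • K) 1 * fromBlocks 1 0 ((2 : F)⁻¹ • K) 1
    rw [fromBlocks_multiply]
    simp only [Matrix.one_mul, Matrix.mul_one, Matrix.mul_zero, Matrix.zero_mul, add_zero,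
      zero_add, ← add_smul]
    rw [show (2 : F)⁻¹ + (2 : F)⁻¹ = 1 by field_simp; norm_num, one_smul])
  rw [e, map_mul]
  exact Prod.ext (Int.units_mul_self _) (Int.units_mul_self _)

theorem theta_upU (K : Matrix (Fin m) (Fin m) F) (hK : Kᵀ = -K) :
    theta (plusQ_nondeg F m) h (upU h2 K hK) = 1 := by
  have e : upU h2 K hK = upU h2 _ (half_skew hK) * upU h2 _ (half_skew hK) := mx_ext (by
    show fromBlocks 1 K 0 1 = fromBlocks 1 ((2 : F)⁻¹ • K) 0 1 * fromBlocks 1 ((2 : F)⁻¹ • K) 0 1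
    rw [fromBlocks_multiply]
    simp only [Matrix.one_mul, Matrix.mul_one, Matrix.mul_zero, Matrix.zero_mul, add_zero,
      zero_add, ← add_smul]
    rw [show (2 : F)⁻¹ + (2 : F)⁻¹ = 1 by field_simp; norm_num, one_smul])
  rw [e, map_mul]
  exact Prod.ext (Int.units_mul_self _) (Int.units_mul_self _)

include h2 in
/-- The big cell. -/
theorem theta_bigcell (g : Cfsg.isometryGroup F ⇑(plusQ F m))
    (hA : (mx g).toBlocks₁₁.det ≠ 0) :
    theta (plusQ_nondeg F m) h g = (1, chi (mx g).toBlocks₁₁.det) := by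
  obtain ⟨r1, r2, r3⟩ := block_rel g
  set A := (mx g).toBlocks₁₁ with hAdef
  set B := (mx g).toBlocks₁₂ with hBdef
  set C := (mx g).toBlocks₂₁ with hCdef
  set D := (mx g).toBlocks₂₂ with hDdef
  have hu : IsUnit A.det := isUnit_iff_ne_zero.2 hA
  have hut : IsUnit Aᵀ.det := by rwa [det_transpose]
  have i1 : A⁻¹ * A = 1 := nonsing_inv_mul _ hu
  have i2 : A * A⁻¹ = 1 := mul_nonsing_inv _ hu
  have i3 : A⁻¹ᵀ * Aᵀ = 1 := by rw [← transpose_mul, i2, transpose_one]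
  have i4 : Aᵀ * A⁻¹ᵀ = 1 := by rw [← transpose_mul, i1, transpose_one]
  have hC : Cᵀ * A = -(Aᵀ * C) := eq_neg_of_add_eq_zero_left r1
  have hK : (C * A⁻¹)ᵀ = -(C * A⁻¹) := by
    calc (C * A⁻¹)ᵀ = A⁻¹ᵀ * (Cᵀ * A) * A⁻¹ := by
          rw [transpose_mul, Matrix.mul_assoc, Matrix.mul_assoc, i2, Matrix.mul_one]
      _ = -(C * A⁻¹) := by
          rw [hC, Matrix.mul_neg, Matrix.neg_mul, ← Matrix.mul_assoc A⁻¹ᵀ, i3, Matrix.one_mul]
  have hD : D - C * A⁻¹ * B = A⁻¹ᵀ := by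
    have e : Aᵀ * (D - C * A⁻¹ * B) = 1 := by
      rw [Matrix.mul_sub]
      have : Aᵀ * (C * A⁻¹ * B) = -(Cᵀ * B) := by
        rw [← Matrix.mul_assoc, ← Matrix.mul_assoc, ← neg_eq_iff_eq_neg.2 hC, Matrix.neg_mul,
          Matrix.neg_mul, Matrix.mul_assoc Cᵀ A, i2, Matrix.mul_one]
      rw [this, sub_neg_eq_add, add_comm]
      exact r2
    calc D - C * A⁻¹ * B = A⁻¹ᵀ * (Aᵀ * (D - C * A⁻¹ * B)) := by
          rw [← Matrix.mul_assoc, i3, Matrix.one_mul]
      _ = A⁻¹ᵀ := by rw [e, Matrix.mul_one]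
  let L := lowU h2 (C * A⁻¹) hK
  let G := GeneralLinearGroup.mkOfDetNeZero A hA
  let g1 := L⁻¹ * g
  have hg1 : mx g1 = fromBlocks A B 0 A⁻¹ᵀ := by
    show fromBlocks 1 0 (-(C * A⁻¹)) 1 * mx g = _
    conv_lhs => rw [← fromBlocks_toBlocks (mx g), ← hAdef, ← hBdef, ← hCdef, ← hDdef,
      fromBlocks_multiply]
    congr 1
    · simp
    · simp
    · rw [Matrix.neg_mul, Matrix.one_mul, Matrix.mul_assoc, i1, Matrix.mul_one, neg_add_cancel]
    · rw [Matrix.neg_mul, Matrix.one_mul, neg_add_eq_sub, hD]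
  obtain ⟨-, -, s3⟩ := block_rel g1
  rw [hg1] at s3
  simp only [toBlocks_fromBlocks₁₂, toBlocks_fromBlocks₂₂, transpose_transpose] at s3
  have hU : (A⁻¹ * B)ᵀ = -(A⁻¹ * B) := by
    rw [transpose_mul]
    exact eq_neg_of_add_eq_zero_right s3
  have hdec : g = L * (OmegaPlus.leviIso G * upU h2 (A⁻¹ * B) hU) := by
    rw [← inv_mul_eq_iff_eq_mul]
    refine mx_ext ?_
    show mx g1 = fromBlocks A 0 0 A⁻¹ᵀ * fromBlocks 1 (A⁻¹ * B) 0 1
    rw [hg1, fromBlocks_multiply, ← Matrix.mul_assoc, i2]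
    simp
  rw [hdec, map_mul, map_mul, theta_lowU, theta_upU, one_mul, mul_one, OmegaPlus.theta_levi]
  rfl

/-! ### Arbitrary forms -/

section general

variable {n : ℕ} {Q : QuadraticForm F (Fin n → F)}

/-- the Gram matrix of the polar form -/
noncomputable def gramQ (Q : QuadraticForm F (Fin n → F)) : Matrix (Fin n) (Fin n) F :=
  Matrix.of fun i j => QuadraticMap.polar Q (Pi.single i 1) (Pi.single j 1)

omit [Fintype F] in
theorem polar_gramQ (x y : Fin n → F) : QuadraticMap.polar Q x y = x ⬝ᵥ (gramQ Q *ᵥ y) := by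
  have e : QuadraticMap.polarBilin Q = Matrix.toBilin' (gramQ Q) :=
    LinearMap.BilinForm.ext_basis (Pi.basisFun F (Fin n)) fun i j => by
      simp [Matrix.toBilin'_single, gramQ]
  rw [← QuadraticMap.polarBilin_apply_apply, e, Matrix.toBilin'_apply']

omit [Fintype F] in
theorem gramQ_symm : (gramQ Q)ᵀ = gramQ Q := by
  ext i j
  exact QuadraticMap.polar_comm _ _ _

omit [Fintype F] in
theorem gramQ_det (hQ : (QuadraticMap.polarBilin Q).Nondegenerate) : (gramQ Q).det ≠ 0 := by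
  intro h0
  obtain ⟨v, hv, hv'⟩ := Matrix.exists_mulVec_eq_zero_iff.2 h0
  exact hv (hQ.2 v fun x => by
    rw [QuadraticMap.polarBilin_apply_apply, polar_gramQ, hv', dotProduct_zero])

/-- `Q ⊥ -Q` is hyperbolic: `(x, y) ↦ (x + y, ½ G (x - y))`. -/
noncomputable def dbl (hQ : (QuadraticMap.polarBilin Q).Nondegenerate) (h2 : (2 : F) ≠ 0) :
    ((Fin n → F) × (Fin n → F)) ≃ₗ[F] (Fin n ⊕ Fin n → F) where
  toFun p := Sum.elim (p.1 + p.2) ((2 : F)⁻¹ • (gramQ Q *ᵥ (p.1 - p.2)))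
  map_add' p q := by
    funext z
    rcases z with z | z
    · simp; ring
    · simp only [Prod.fst_add, Prod.snd_add, Sum.elim_inr, Pi.add_apply, Pi.smul_apply,
        show p.1 + q.1 - (p.2 + q.2) = (p.1 - p.2) + (q.1 - q.2) by abel, mulVec_add, smul_add]
  map_smul' t p := by
    funext z
    rcases z with z | z
    · simp; ring
    · simp only [Prod.smul_fst, Prod.smul_snd, ← smul_sub, mulVec_smul, Sum.elim_inr,
        Pi.smul_apply, smul_eq_mul, RingHom.id_apply]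
      ring
  invFun v := ((2 : F)⁻¹ • (v ∘ Sum.inl) + (gramQ Q)⁻¹ *ᵥ (v ∘ Sum.inr),
    (2 : F)⁻¹ • (v ∘ Sum.inl) - (gramQ Q)⁻¹ *ᵥ (v ∘ Sum.inr))
  left_inv p := by
    have hG : IsUnit (gramQ Q).det := isUnit_iff_ne_zero.2 (gramQ_det hQ)
    simp only [Sum.elim_comp_inl, Sum.elim_comp_inr, mulVec_smul, mulVec_mulVec,
      nonsing_inv_mul _ hG, one_mulVec]
    refine Prod.ext (funext fun i => ?_) (funext fun i => ?_) <;>
      simp <;> field_simp <;> ring
  right_inv v := by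
    have hG : IsUnit (gramQ Q).det := isUnit_iff_ne_zero.2 (gramQ_det hQ)
    funext z
    rcases z with i | i
    · simp; field_simp; ring
    · simp only [Sum.elim_inr, mulVec_smul,
        add_sub_sub_cancel, ← two_smul F, mulVec_mulVec, mul_nonsing_inv _ hG, one_mulVec,
        smul_smul, inv_mul_cancel₀ h2, one_smul]
      rfl

omit [Fintype F] in
theorem dbl_value (hQ : (QuadraticMap.polarBilin Q).Nondegenerate) (h2 : (2 : F) ≠ 0)
    (x y : Fin n → F) : plusQ F n (dbl hQ h2 (x, y)) = Q x - Q y := by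
  rw [plus_dot]
  show (x + y) ⬝ᵥ ((2 : F)⁻¹ • (gramQ Q *ᵥ (x - y))) = _
  rw [dotProduct_smul, ← polar_gramQ, QuadraticMap.polar_sub_right, QuadraticMap.polar_add_left,
    QuadraticMap.polar_add_left, QuadraticMap.polar_self, QuadraticMap.polar_self,
    QuadraticMap.polar_comm _ y x]
  simp only [smul_eq_mul, nsmul_eq_mul]
  push_cast
  field_simp
  ring

omit [Fintype F] in
theorem dblAct_value (hQ : (QuadraticMap.polarBilin Q).Nondegenerate) (h2 : (2 : F) ≠ 0)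
    (g : Cfsg.isometryGroup F ⇑Q) (e : (Fin n → F) ≃ₗ[F] (Fin n → F))
    (he : ∀ x, e x = act g x) (v : Fin n ⊕ Fin n → F) :
    plusQ F n ((dbl hQ h2).symm.trans ((e.prodCongr (LinearEquiv.refl F _)).trans (dbl hQ h2)) v)
      = plusQ F n v := by
  obtain ⟨⟨x, y⟩, rfl⟩ := (dbl hQ h2).surjective v
  simp only [LinearEquiv.trans_apply, LinearEquiv.symm_apply_apply, LinearEquiv.prodCongr_apply,
    LinearEquiv.refl_apply]
  rw [dbl_value, dbl_value, he, act_map]

/-- `g ↦ g ⊕ 1`, on the hyperbolic space. -/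
noncomputable def dblHom (hQ : (QuadraticMap.polarBilin Q).Nondegenerate) (h2 : (2 : F) ≠ 0) :
    Cfsg.isometryGroup F ⇑Q →* Cfsg.isometryGroup F ⇑(plusQ F n) :=
  MonoidHom.mk'
    (fun g => isoOfEquiv _ _ (dblAct_value hQ h2 g
      (LinearEquiv.ofLinearMap (act g) (act g⁻¹)
        (LinearMap.ext fun x => by
          rw [LinearMap.comp_apply, ← act_mul, mul_inv_cancel, act_one]; rfl)
        (LinearMap.ext fun x => Spinor.act_inv_cancel g x)) fun x => rfl))
    fun g g' => Orth.act_ext fun v => by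
      rw [act_mul]
      simp only [act_apply, isoOfEquiv_mulVec]
      simp [LinearEquiv.trans_apply, act_mul, ← act_apply]

omit [Fintype F] in
theorem act_dblHom (hQ : (QuadraticMap.polarBilin Q).Nondegenerate) (h2 : (2 : F) ≠ 0)
    (g : Cfsg.isometryGroup F ⇑Q) (x y : Fin n → F) :
    act (dblHom hQ h2 g) (dbl hQ h2 (x, y)) = dbl hQ h2 (act g x, y) := by
  rw [act_apply, dblHom, MonoidHom.mk'_apply, isoOfEquiv_mulVec]
  simp [LinearEquiv.trans_apply]

/-- **Zassenhaus**: the spinor norm from `det (1 + g)`. -/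
theorem theta_cayley (hQ : (QuadraticMap.polarBilin Q).Nondegenerate) (h2 : (2 : F) ≠ 0)
    (hq : Fintype.card F ≠ 2 ∨ Fintype.card (Fin n) ≠ 4) (g : Cfsg.isometryGroup F ⇑Q)
    (hg : (1 + mx g).det ≠ 0) :
    theta hQ hq g = (1, chi (((2 : F)⁻¹) ^ n * (1 + mx g).det)) := by
  have h3 : Fintype.card F ≠ 2 := fun h0 => h2 (by
    have : ringChar F = 2 := (FiniteField.even_card_iff_char_two).2 (by rw [h0])
    haveI : CharP F 2 := ringChar.of_eq this
    exact CharTwo.two_eq_zero)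
  have href : ∀ v, Q v ≠ 0 →
      dblHom hQ h2 (reflect Q v) = reflect (plusQ F n) (dbl hQ h2 (v, 0)) := by
    intro v hv
    refine Orth.act_ext fun w => ?_
    obtain ⟨⟨x, y⟩, rfl⟩ := (dbl hQ h2).surjective w
    have hp : QuadraticMap.polar (plusQ F n) (dbl hQ h2 (v, 0)) (dbl hQ h2 (x, y)) =
        QuadraticMap.polar Q v x := by
      simp only [QuadraticMap.polar, ← map_add, dbl_value, Prod.mk_add_mk, zero_add,
        QuadraticMap.map_zero]
      ring
    rw [act_dblHom, act_reflect, act_reflect, dbl_value, QuadraticMap.map_zero, sub_zero, hp,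
      ← map_smul, ← map_sub, Prod.smul_mk, smul_zero, Prod.mk_sub_mk, sub_zero]
  have ht := theta_map hQ hq (plusQ_nondeg F n) (Or.inl h3) (dblHom hQ h2)
    (fun v => dbl hQ h2 (v, 0))
    (fun v => by rw [dbl_value, QuadraticMap.map_zero, sub_zero]) href g
  have hblk : (mx (dblHom hQ h2 g)).toBlocks₁₁ = (2 : F)⁻¹ • (1 + mx g) := by
    refine Matrix.ext_iff_mulVec.2 fun u => ?_
    have e := act_dblHom hQ h2 g ((2 : F)⁻¹ • u) ((2 : F)⁻¹ • u)
    have e1 : dbl hQ h2 ((2 : F)⁻¹ • u, (2 : F)⁻¹ • u) = Sum.elim u 0 := by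
      show Sum.elim ((2 : F)⁻¹ • u + (2 : F)⁻¹ • u) _ = _
      rw [sub_self, mulVec_zero, smul_zero, ← add_smul,
        show (2 : F)⁻¹ + (2 : F)⁻¹ = 1 by field_simp; norm_num, one_smul]
    rw [e1, act_apply] at e
    have e2 := congrArg (fun z => z ∘ Sum.inl) e
    change _ = act g ((2 : F)⁻¹ • u) + (2 : F)⁻¹ • u at e2
    set D := mx (dblHom hQ h2 g) with hD
    change (D *ᵥ Sum.elim u 0) ∘ Sum.inl = _ at e2
    conv at e2 => lhs; rw [← fromBlocks_toBlocks D]
    rw [fromBlocks_mulVec] at e2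
    simp only [Sum.elim_comp_inl, Sum.elim_comp_inr, mulVec_zero, add_zero] at e2
    rw [e2, act_apply, mulVec_smul, ← smul_add, smul_mulVec, add_mulVec, one_mulVec, add_comm]
  rw [← ht, theta_bigcell h2 (Or.inl h3) _ (by
    rw [hblk, det_smul]; exact mul_ne_zero (pow_ne_zero _ (inv_ne_zero h2)) hg)]
  rw [hblk, det_smul, Fintype.card_fin]

end general

end Cfsg.Agent.AutPOmega.SSFusion
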